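import Groth.Agent.Ega3B.ProjProper
import Mathlib.AlgebraicGeometry.Morphisms.QuasiFinite
import Mathlib.Topology.KrullDimension
import Mathlib.Topology.DiscreteSubset
import Mathlib.RingTheory.MvPolynomial.Ideal

/-!
# A closed subset of projective space missing a coordinate hyperplane has dimension at most zero
-/

set_option autoImplicit false
universe u

open CategoryTheory CategoryTheory.Limits AlgebraicGeometry TopologicalSpace Topology

namespace K806.HypMeet

/-- A closed subset of a proper scheme over a field contained in an affine open subset has dimension `≤ 0`. -/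
theorem dim_le_zero_of_subset_affine {k : Type u} [Field k] {P : Scheme.{u}}
    (f : P ⟶ Spec (CommRingCat.of k)) [IsProper f] (V : P.Opens) (hV : IsAffineOpen V)
    (Z : Set P) (hZ : IsClosed Z) (hZV : Z ⊆ V) : topologicalKrullDim Z ≤ 0 := by
  let J : P.IdealSheafData := Scheme.IdealSheafData.vanishingIdeal ⟨Z, hZ⟩
  have hr : Set.range J.subschemeι = Z := by
    erw [Scheme.IdealSheafData.range_subschemeι]
    rw [Scheme.IdealSheafData.coe_support_vanishingIdeal]
    rfl
  have hle : Set.range J.subschemeι ⊆ Set.range V.ι := by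
    rw [hr, Scheme.Opens.range_ι]
    exact hZV
  let j := IsOpenImmersion.lift V.ι J.subschemeι hle
  have hj : j ≫ V.ι = J.subschemeι := IsOpenImmersion.lift_fac _ _ _
  have hc : IsClosedImmersion (j ≫ V.ι) := by rw [hj]; infer_instance
  have hjc : IsClosedImmersion j := IsClosedImmersion.of_comp j V.ι
  have hVa : IsAffine V := hV
  have haff : IsAffine J.subscheme := isAffine_of_isAffineHom j
  have hfin : IsFinite (J.subschemeι ≫ f) := by
    rw [IsFinite.iff_isProper_and_isAffineHom]
    exact ⟨inferInstance, inferInstance⟩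
  have hdisc : DiscreteTopology J.subscheme := by
    rw [← isDiscrete_univ_iff]
    have h1 := (J.subschemeι ≫ f).isDiscrete_preimage_singleton (IsLocalRing.closedPoint k)
    convert h1
    ext x
    simp only [Set.mem_univ, Set.mem_preimage, true_iff]
    exact Subsingleton.elim (α := PrimeSpectrum k) _ _
  have h0 : topologicalKrullDim J.subscheme ≤ 0 := topologicalKrullDim_zero_of_discreteTopology _
  have e := J.subschemeι.isClosedEmbedding.isEmbedding.toHomeomorph
  have h1 : topologicalKrullDim J.subscheme = topologicalKrullDim (Set.range J.subschemeι) :=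
    IsHomeomorph.topologicalKrullDim_eq e e.isHomeomorph
  rw [hr] at h1
  rw [← h1]
  exact h0

/-- A closed subset of `P^n_k` not meeting a coordinate hyperplane has dimension `≤ 0`. -/
theorem dim_le_zero {n : ℕ} {k : Type u} [Field k]
    (Z : Set (ProjectiveSpectrum (CohB1.polyGrading n k))) (hZ : IsClosed Z) (i : Fin (n + 1))
    (h : Z ∩ ProjectiveSpectrum.zeroLocus (CohB1.polyGrading n k)
      {(MvPolynomial.X i : MvPolynomial (Fin (n + 1)) k)} = ∅) : topologicalKrullDim Z ≤ 0 := by
  have := Groth.Agent.Ega3B.ProjProper.isProper_toSpec n k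
  have hX : (MvPolynomial.X i : MvPolynomial (Fin (n + 1)) k) ∈ CohB1.polyGrading n k 1 :=
    (MvPolynomial.mem_homogeneousSubmodule 1 _).mpr (MvPolynomial.isHomogeneous_X k i)
  refine dim_le_zero_of_subset_affine (P := CohB1.ProjSpace n k) (CohB1.ProjSpace.toSpec n k)
    (Proj.basicOpen (CohB1.polyGrading n k) (MvPolynomial.X i))
    (Proj.isAffineOpen_basicOpen _ _ hX one_pos) Z hZ fun z hz => ?_
  refine (ProjectiveSpectrum.mem_basicOpen (CohB1.polyGrading n k) (MvPolynomial.X i) z).mpr ?_
  intro hmem
  have : z ∈ Z ∩ ProjectiveSpectrum.zeroLocus (CohB1.polyGrading n k)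
      {(MvPolynomial.X i : MvPolynomial (Fin (n + 1)) k)} :=
    ⟨hz, by rw [ProjectiveSpectrum.mem_zeroLocus]; simpa using hmem⟩
  rw [h] at this
  exact this

/-- No point of projective space has all coordinates zero. -/
theorem exists_X_notMem {n : ℕ} {k : Type u} [Field k]
    (z : ProjectiveSpectrum (CohB1.polyGrading n k)) :
    ∃ i, (MvPolynomial.X i : MvPolynomial (Fin (n + 1)) k) ∉ z.asHomogeneousIdeal := by
  by_contra hcon
  push Not at hcon
  apply z.not_irrelevant_le
  intro a ha
  have h1 : a ∈ Ideal.span (MvPolynomial.X '' (Set.univ : Set (Fin (n + 1))) :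
      Set (MvPolynomial (Fin (n + 1)) k)) := by
    rw [MvPolynomial.mem_ideal_span_X_image]
    intro m hm
    by_contra hm0
    push Not at hm0
    have hm0' : m = 0 := by
      ext i
      exact hm0 i trivial
    subst hm0'
    rw [MvPolynomial.mem_support_iff] at hm
    apply hm
    have h2 : GradedRing.proj (CohB1.polyGrading n k) 0 a = 0 := ha
    have h3 : GradedRing.proj (CohB1.polyGrading n k) 0 a = MvPolynomial.homogeneousComponent 0 a := by
      rw [GradedRing.proj_apply]
      exact MvPolynomial.decomposition.decompose'_apply a 0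
    rw [h3, MvPolynomial.homogeneousComponent_zero] at h2
    exact (MvPolynomial.C_eq_zero).mp h2
  have h2 : Ideal.span (MvPolynomial.X '' (Set.univ : Set (Fin (n + 1))) :
      Set (MvPolynomial (Fin (n + 1)) k)) ≤ z.asHomogeneousIdeal.toIdeal := by
    rw [Ideal.span_le]
    rintro _ ⟨i, -, rfl⟩
    exact hcon i
  exact h2 h1

end K806.HypMeet
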